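import Cfsg.Agent.H739.SK.OmCase
import Cfsg.Agent.H955.QSpace

/-!
# S3691 (T4): Siegel elements from the action on `v^⊥ / v`, characteristic two (helper588, for helper964)
-/

set_option autoImplicit false

namespace Cfsg.Agent.H588.Rg

open Module QuadraticMap Cfsg.Agent.LieClassical.OrthCore Cfsg.Agent.LieClassical.OrthTrans Cfsg.Agent.H955

universe u v

variable {F : Type u} [Field F] [Fintype F] {V : Type v} [AddCommGroup V] [Module F V] [FiniteDimensional F V]
  {Q : QuadraticForm F V} {A : Subgroup (V ≃ₗ[F] V)}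

omit [Fintype F] [FiniteDimensional F V] in
theorem Q_add_smul {v z : V} (m : F) : Q (z + m • v) = Q z + (m * m * Q v + m * polar Q z v) := by
  rw [Q_add, QuadraticMap.map_smul, polar_smul_right, smul_eq_mul, smul_eq_mul, add_assoc]

omit [Fintype F] in
/-- an isometry that fixes `v^⊥` pointwise is the identity or the reflection in `v` -/
theorem eq_one_or_refl (hQ : Nondeg Q) {v : V} (hv : Q v ≠ 0) {b : V ≃ₗ[F] V} (hb : b ∈ O Q)
    (hP : ∀ p ∈ perp Q (Submodule.span F {v}), b p = p) : b = 1 ∨ b = refl Q v hv := by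
  have hv0 : v ≠ 0 := by rintro rfl; exact hv (QuadraticMap.map_zero Q)
  obtain ⟨z₀, hz₀⟩ := hQ.exists_polar_ne hv0
  have hmem : ∀ p : V, polar Q v p = 0 → p ∈ perp Q (Submodule.span F {v}) := by
    intro p hp w hw
    obtain ⟨c, rfl⟩ := Submodule.mem_span_singleton.1 hw
    rw [polar_smul_left, hp, smul_zero]
  have hdec : ∀ z : V, z - (polar Q v z * (polar Q v z₀)⁻¹) • z₀ ∈ perp Q (Submodule.span F {v}) := by
    intro z
    apply hmem
    rw [polar_sub_right, polar_smul_right, smul_eq_mul, mul_assoc, inv_mul_cancel₀ hz₀, mul_one, sub_self]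
  have hext : ∀ g : V ≃ₗ[F] V, (∀ p ∈ perp Q (Submodule.span F {v}), g p = p) → b z₀ = g z₀ → b = g := by
    intro g hg h0
    ext z
    have h1 := hP _ (hdec z)
    have h2 := hg _ (hdec z)
    rw [map_sub, map_smul] at h1 h2
    have h3 := h1.trans h2.symm
    rw [h0] at h3
    exact sub_left_inj.1 h3
  have hin : b z₀ - z₀ ∈ perp Q (perp Q (Submodule.span F {v})) := by
    intro p hp
    rw [polar_sub_right]
    conv_lhs => rw [← hP p hp]
    rw [polar_map hb, hP p hp, sub_self]
  rw [perp_perp hQ, Submodule.mem_span_singleton] at hin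
  obtain ⟨m, hm⟩ := hin
  have hbz : b z₀ = z₀ + m • v := by rw [hm]; abel
  have hq := mem_O.1 hb z₀
  rw [hbz, Q_add_smul, add_eq_left, mul_assoc, ← mul_add, mul_eq_zero] at hq
  rcases hq with h | h
  · left
    apply hext 1 (fun p _ => rfl)
    rw [hbz, h, zero_smul, add_zero]
    rfl
  · right
    apply hext
    · intro p hp
      rw [refl_apply, hp v (Submodule.mem_span_singleton_self v), mul_zero, zero_smul, sub_zero]
    · rw [hbz, refl_apply, polar_comm Q v z₀, sub_eq_add_neg, ← neg_smul]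
      congr 2
      have h1 : m * Q v = - polar Q z₀ v := eq_neg_of_add_eq_zero_left h
      field_simp
      exact h1

/-- (T4) Siegel elements from the action on `v^⊥ / v`, characteristic 2, `v` nonsingular -/
theorem lift_even (h2 : (2 : F) = 0) (hQ : Nondeg Q) {v : V} (hv : Q v ≠ 0) (hA : A ≤ E Q) (hn : 7 ≤ finrank F V)
    (hAv : ∀ a ∈ A, a v = v) {U : Submodule F V} (hU : U ⊔ Submodule.span F {v} = perp Q (Submodule.span F {v}))
    (hU0 : U ⊓ Submodule.span F {v} = ⊥)
    (hSp : ∀ x : U ≃ₗ[F] U, (∀ u w, polar (res Q U) (x u) (x w) = polar (res Q U) u w) →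
      ∃ a ∈ A, ∀ u : U, ∃ c : F, a u = x u + c • v)
    {x w : V} (hx : Q x = 0) (hw : polar Q x w = 0) (hxv : polar Q x v = 0) (hwv : polar Q w v = 0) :
    siegel Q x w hx hw ∈ A := by
  classical
  have hv0 : v ≠ 0 := by rintro rfl; exact hv (QuadraticMap.map_zero Q)
  have hvv : polar Q v v = 0 := by rw [polar_self', h2, zero_mul]
  have hvU : v ∉ U := by
    intro h
    have h1 : v ∈ U ⊓ Submodule.span F {v} := ⟨h, Submodule.mem_span_singleton_self v⟩
    rw [hU0, Submodule.mem_bot] at h1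
    exact hv0 h1
  have hUP : ∀ u ∈ U, polar Q v u = 0 := by
    intro u hu
    have h1 : u ∈ perp Q (Submodule.span F {v}) := by rw [← hU]; exact Submodule.mem_sup_left hu
    exact h1 v (Submodule.mem_span_singleton_self v)
  -- a linear form
  obtain ⟨f, hfv, hfU⟩ : ∃ f : V →ₗ[F] F, f v = 1 ∧ ∀ u ∈ U, f u = 0 := by
    obtain ⟨f, hf, hfU⟩ := Submodule.exists_dual_map_eq_bot_of_notMem hvU inferInstance
    refine ⟨(f v)⁻¹ • f, by rw [LinearMap.smul_apply, smul_eq_mul, inv_mul_cancel₀ hf], fun u hu => ?_⟩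
    have h1 : f u ∈ U.map f := Submodule.mem_map_of_mem hu
    rw [hfU, Submodule.mem_bot] at h1
    rw [LinearMap.smul_apply, h1, smul_zero]
  have hproj : ∀ p : V, polar Q v p = 0 → p - f p • v ∈ U := by
    intro p hp
    have h1 : p ∈ U ⊔ Submodule.span F {v} := by
      rw [hU]
      intro w hw
      obtain ⟨c, rfl⟩ := Submodule.mem_span_singleton.1 hw
      rw [polar_smul_left, hp, smul_zero]
    obtain ⟨u, hu, w, hw, rfl⟩ := Submodule.mem_sup.1 h1
    obtain ⟨c, rfl⟩ := Submodule.mem_span_singleton.1 hw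
    rw [map_add, hfU u hu, map_smul, hfv, smul_eq_mul, mul_one, zero_add, add_sub_cancel_right]
    exact hu
  -- `U` is nondegenerate
  have hUnd : ∀ u ∈ U, (∀ w ∈ U, polar Q u w = 0) → u = 0 := by
    intro u hu h
    have h1 : u ∈ perp Q (perp Q (Submodule.span F {v})) := by
      intro p hp
      rw [← hU] at hp
      obtain ⟨w, hw, t, ht, rfl⟩ := Submodule.mem_sup.1 hp
      obtain ⟨c, rfl⟩ := Submodule.mem_span_singleton.1 ht
      rw [polar_comm, polar_add_right, h w hw, polar_smul_right, polar_comm, hUP u hu, smul_zero, add_zero]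
    rw [perp_perp hQ] at h1
    have h2 : u ∈ U ⊓ Submodule.span F {v} := ⟨hu, h1⟩
    rwa [hU0, Submodule.mem_bot] at h2
  -- the Siegel element
  set ρ := siegel Q x w hx hw with hρ
  have hρO : ρ ∈ O Q := siegel_mem_O hx hw
  have hρv : ρ v = v := by rw [hρ, siegel_apply, hxv, hwv]; simp
  have hρP : ∀ p : V, polar Q v p = 0 → polar Q v (ρ p) = 0 := by
    intro p hp
    rw [← hρv, polar_map hρO, hp]
  let Y : U →ₗ[F] U := LinearMap.codRestrict U
    ((ρ.toLinearMap - (f ∘ₗ ρ.toLinearMap).smulRight v) ∘ₗ U.subtype)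
    (fun u => hproj _ (hρP _ (hUP _ u.2)))
  have hY : ∀ u : U, (Y u : V) = ρ u - f (ρ u) • v := fun u => rfl
  have hYp : ∀ u w : U, polar Q (Y u : V) (Y w : V) = polar Q (u : V) (w : V) := by
    intro u w
    rw [hY, hY, polar_sub_left, polar_sub_right, polar_sub_right, polar_map hρO, polar_smul_left, polar_smul_left,
      polar_smul_right, polar_smul_right, hvv, hρP _ (hUP _ w.2), polar_comm Q (ρ u) v, hρP _ (hUP _ u.2)]
    simp
  have hYi : Function.Injective Y := by
    rw [injective_iff_map_eq_zero]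
    intro u hu
    apply Subtype.ext
    apply hUnd u u.2
    intro w hw
    rw [← hYp u ⟨w, hw⟩, hu, ZeroMemClass.coe_zero, polar_zero_left]
  obtain ⟨a, haA, ha⟩ := hSp (LinearEquiv.ofInjectiveEndo Y hYi) (fun u w => by
    rw [polar_res, polar_res]; exact hYp u w)
  have haO : a ∈ O Q := E_le_O (hA haA)
  have hbO : a⁻¹ * ρ ∈ O Q := (O Q).mul_mem ((O Q).inv_mem haO) hρO
  have hav : a⁻¹ v = v := by
    show a.symm v = v
    rw [LinearEquiv.symm_apply_eq, hAv a haA]
  have hbv : (a⁻¹ * ρ) v = v := by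
    show a⁻¹ (ρ v) = v
    rw [hρv, hav]
  have hbU : ∀ u ∈ U, (a⁻¹ * ρ) u = u := by
    intro u hu
    obtain ⟨c, hc⟩ := ha ⟨u, hu⟩
    have h1 : a u = (ρ u - f (ρ u) • v) + c • v := hc
    have h3 : ρ u = a u + (f (ρ u) - c) • v := by rw [h1]; module
    have h4 : (a⁻¹ * ρ) u = u + (f (ρ u) - c) • v := by
      show a⁻¹ (ρ u) = _
      conv_lhs => rw [h3]
      rw [map_add, map_smul, hav]
      congr 1
      exact a.symm_apply_apply u
    have h5 := mem_O.1 hbO u
    rw [h4, Q_add_smul, polar_comm Q u v, hUP u hu, mul_zero, add_zero, add_eq_left] at h5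
    have h6 : f (ρ u) - c = 0 := by
      rcases mul_eq_zero.1 h5 with h | h
      · exact mul_self_eq_zero.1 h
      · exact absurd h hv
    rw [h4, h6, zero_smul, add_zero]
  have hbP : ∀ p ∈ perp Q (Submodule.span F {v}), (a⁻¹ * ρ) p = p := by
    intro p hp
    rw [← hU] at hp
    obtain ⟨w, hw, t, ht, rfl⟩ := Submodule.mem_sup.1 hp
    obtain ⟨c, rfl⟩ := Submodule.mem_span_singleton.1 ht
    rw [map_add, map_smul, hbU w hw, hbv]
  rcases eq_one_or_refl hQ hv hbO hbP with h | h
  · rw [inv_mul_eq_one] at h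
    rw [← h]
    exact haA
  · exfalso
    have : CharP F 2 := CharTwo.of_one_ne_zero_of_two_eq_zero one_ne_zero h2
    have hG : Good Q := Cfsg.Agent.LieClassical.OrthFinite.good_of_finite hQ (by omega)
    have h1 : a⁻¹ * ρ ∈ E Q := (E Q).mul_mem ((E Q).inv_mem (hA haA)) (siegel_mem_E hx hw)
    have h3 := H739.SK.Om.E_le_Dk hG h1
    rw [h] at h3
    exact H739.SK.Om.refl_notMem_Dk hG.nondeg hv h3

end Cfsg.Agent.H588.Rg
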